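import Cfsg.Agent.Lib.StronglyEmbedded.Basic
import Cfsg.Agent.Lib.StrongEmb.Basic

/-!
`IsStronglyPEmbedded` gives `MeetsPrime`: conjugating a nontrivial `p`-element into `H` happens
only inside `H`.
-/

set_option autoImplicit false

namespace Cfsg.Agent.StronglyEmbedded

open Subgroup

variable {G : Type*} [Group G] [Finite G] {p : ℕ} [Fact p.Prime] {H : Subgroup G}

/-- A `p`-subgroup meeting `H` nontrivially lies in `H`. -/
theorem le_of_inf_ne_bot (h : Cfsg.IsStronglyPEmbedded p H) {U : Subgroup G} (hU : IsPGroup p U)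
    (hne : U ⊓ H ≠ ⊥) : U ≤ H := by
  by_contra hn
  have hQ : H.subgroupOf U ≠ ⊤ := fun h' => hn (subgroupOf_eq_top.mp h')
  obtain ⟨g, hg, hgQ⟩ := SetLike.exists_of_lt (PGroup.lt_normalizer hU hQ)
  apply hgQ
  refine normalizer_le h (hU.to_le inf_le_left) inf_le_right hne (x := (g : G)) ?_
  rw [mem_normalizer_iff]
  intro q
  constructor
  · rintro ⟨hqU, hqH⟩
    have h1 := (mem_normalizer_iff.1 hg ⟨q, hqU⟩).1 hqH
    exact ⟨U.mul_mem (U.mul_mem g.2 hqU) (U.inv_mem g.2), h1⟩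
  · rintro ⟨hqU, hqH⟩
    have hq' : q ∈ U := by
      have := U.mul_mem (U.mul_mem (U.inv_mem g.2) hqU) g.2
      simpa [mul_assoc] using this
    exact ⟨hq', (mem_normalizer_iff.1 hg ⟨q, hq'⟩).2 hqH⟩

/-- If a nontrivial `p`-element of `H` is conjugated into `H` by `g`, then `g ∈ H`. -/
theorem mem_of_conj (h : Cfsg.IsStronglyPEmbedded p H) {x g : G} (hx : orderOf x = p) (hxH : x ∈ H)
    (hgx : g * x * g⁻¹ ∈ H) : g ∈ H := by
  obtain ⟨P, hPH, -⟩ := exists_sylow h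
  have hp : p.Prime := Fact.out
  have hzp : IsPGroup p (zpowers x) :=
    IsPGroup.of_card (n := 1) (by rw [Nat.card_zpowers, hx, pow_one])
  obtain ⟨U, hU⟩ := hzp.exists_le_sylow
  have hUne : (U : Subgroup G) ⊓ H ≠ ⊥ := fun e => by
    have h1 : x ∈ (⊥ : Subgroup G) := e ▸ ⟨hU (mem_zpowers x), hxH⟩
    rw [mem_bot] at h1
    rw [h1, orderOf_one] at hx
    exact hp.one_lt.ne hx
  have hUH : (U : Subgroup G) ≤ H := le_of_inf_ne_bot h U.2 hUne
  set V := (U : Subgroup G).map (MulAut.conj g).toMonoidHom with hV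
  have hVne : V ⊓ H ≠ ⊥ := fun e => by
    have h1 : g * x * g⁻¹ ∈ (⊥ : Subgroup G) := e ▸ ⟨⟨x, hU (mem_zpowers x), rfl⟩, hgx⟩
    rw [mem_bot, conj_eq_one_iff] at h1
    rw [h1, orderOf_one] at hx
    exact hp.one_lt.ne hx
  have hVH : V ≤ H := le_of_inf_ne_bot h (U.2.map _) hVne
  obtain ⟨k, hk⟩ := MulAction.exists_smul_eq ↥H ((g • U).subtype (by
    intro y hy
    rw [StrongEmb.mem_smul_sylow_iff] at hy
    exact hVH ⟨g⁻¹ * y * g, hy, by simp [mul_assoc]⟩)) (U.subtype hUH)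
  have hn : (k : G) * g ∈ normalizer ((U : Subgroup G) : Set G) := by
    rw [mem_normalizer_iff_map_conj_eq]
    refine Subgroup.eq_of_le_of_card_ge ?_ (le_of_eq (Nat.card_congr
      ((U : Subgroup G).equivMapOfInjective _ (MulAut.conj ((k : G) * g)).injective).toEquiv))
    rintro _ ⟨y, hy, rfl⟩
    have hgy : g * y * g⁻¹ ∈ H := hVH ⟨y, hy, rfl⟩
    have h1 : k * ⟨g * y * g⁻¹, hgy⟩ * k⁻¹ ∈ ((U.subtype hUH : Sylow p ↥H) : Subgroup ↥H) := by
      rw [← hk, StrongEmb.mem_smul_sylow_iff]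
      simp only [mul_assoc, inv_mul_cancel_left, inv_mul_cancel, mul_one]
      show g * (y * g⁻¹) ∈ ((g • U : Sylow p G) : Subgroup G)
      rw [StrongEmb.mem_smul_sylow_iff, show g⁻¹ * (g * (y * g⁻¹)) * g = y by group]
      exact hy
    show (k : G) * g * y * ((k : G) * g)⁻¹ ∈ _
    rw [_root_.mul_inv_rev]
    simpa [Sylow.coe_subtype, Subgroup.mem_subgroupOf, mul_assoc] using h1
  have h3 := H.mul_mem (H.inv_mem k.2)
    (normalizer_le h U.2 hUH (fun e => hUne (by rw [e, bot_inf_eq])) hn)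
  simpa using h3

theorem meetsPrime (h : Cfsg.IsStronglyPEmbedded p H) : StrongEmb.MeetsPrime p H := by
  intro g hg hdvd
  obtain ⟨y, hy⟩ := exists_prime_orderOf_dvd_card' p hdvd
  obtain ⟨hyH, z, hz, hzy⟩ := (y.2 : (y : G) ∈ H ⊓ H.map (MulAut.conj g).toMonoidHom)
  refine hg ?_
  have hzy' : g * z * g⁻¹ = (y : G) := hzy
  refine mem_of_conj h ?_ hz (hzy' ▸ hyH)
  rw [← hy, ← Subgroup.orderOf_coe, ← hzy']
  exact (orderOf_injective (MulAut.conj g).toMonoidHom (MulAut.conj g).injective z).symm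

end Cfsg.Agent.StronglyEmbedded
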