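import Cfsg.Prelude.Def_EvenType
import Mathlib.GroupTheory.Sylow

/-!
Strongly `p`-embedded subgroups, unfolded to normalisers of nontrivial `p`-subgroups.
-/

set_option autoImplicit false

namespace Cfsg.Agent.StronglyEmbedded

open Subgroup

variable {G : Type*} [Group G] {p : ℕ}

theorem not_pRankLE_zero [Finite G] [hp : Fact p.Prime] {Q : Subgroup G} (hQ : IsPGroup p ↥Q)
    (hne : Q ≠ ⊥) : ¬ Cfsg.PRankLE p 0 ↥Q := by
  intro h
  obtain ⟨n, hn⟩ := IsPGroup.iff_card.1 hQ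
  have hd : p ∣ Nat.card ↥Q := by
    rcases n with _ | n
    · exact absurd (card_eq_one.1 (by simpa using hn)) hne
    · exact hn ▸ dvd_pow_self p (Nat.succ_ne_zero n)
  obtain ⟨x, hx⟩ := exists_prime_orderOf_dvd_card' p hd
  have h1 := h (zpowers x) inferInstance (fun a ha => by
    obtain ⟨k, rfl⟩ := mem_zpowers_iff.1 ha
    rw [← zpow_natCast, ← zpow_mul, mul_comm, zpow_mul, zpow_natCast, ← hx, pow_orderOf_eq_one,
      one_zpow])
  rw [Nat.card_zpowers, hx, pow_zero] at h1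
  exact absurd hp.out.one_lt (not_lt.2 h1)

theorem ne_bot_of_not_pRankLE_zero {Q : Subgroup G} (h : ¬ Cfsg.PRankLE p 0 ↥Q) : Q ≠ ⊥ := by
  rintro rfl
  exact h fun A _ _ => by simp

/-- Normalisers of all nontrivial subgroups of one Sylow subgroup give strong embedding. -/
theorem intro_of_normalizer [Finite G] [Fact p.Prime] {Y : Subgroup G} (hdiv : p ∣ Nat.card G)
    (hY : Y ≠ ⊤) (P : Sylow p G)
    (h : ∀ Q : Subgroup G, Q ≤ (P : Subgroup G) → Q ≠ ⊥ → normalizer (Q : Set G) ≤ Y) :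
    Cfsg.IsStronglyPEmbedded p Y :=
  ⟨hdiv, hY, P, iSup_le fun Q => h Q.1 Q.2.1 (ne_bot_of_not_pRankLE_zero Q.2.2)⟩

/-- A strongly embedded subgroup contains the normalisers of the nontrivial subgroups of some
Sylow subgroup of `G` that it contains. -/
theorem exists_sylow [Finite G] [Fact p.Prime] {Y : Subgroup G}
    (h : Cfsg.IsStronglyPEmbedded p Y) :
    ∃ P : Sylow p G, (P : Subgroup G) ≤ Y ∧
      ∀ Q : Subgroup G, Q ≤ (P : Subgroup G) → Q ≠ ⊥ → normalizer (Q : Set G) ≤ Y := by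
  obtain ⟨hdiv, -, P, hP⟩ := h
  have key : ∀ Q : Subgroup G, Q ≤ (P : Subgroup G) → Q ≠ ⊥ → normalizer (Q : Set G) ≤ Y :=
    fun Q hQ hne => le_trans (le_iSup
      (fun R : {R : Subgroup G // R ≤ (P : Subgroup G) ∧ ¬ Cfsg.PRankLE p (1 - 1) ↥R} =>
        normalizer ((R : Subgroup G) : Set G))
      ⟨Q, hQ, (Nat.sub_self 1).symm ▸ not_pRankLE_zero (P.2.to_le hQ) hne⟩) hP
  exact ⟨P, le_normalizer.trans (key _ le_rfl (P.ne_bot_of_dvd_card hdiv)), key⟩

/-- A strongly embedded subgroup contains the normaliser of each of its nontrivial `p`-subgroups. -/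
theorem normalizer_le [Finite G] [Fact p.Prime] {Y : Subgroup G}
    (h : Cfsg.IsStronglyPEmbedded p Y) {Q : Subgroup G} (hQ : IsPGroup p ↥Q) (hQY : Q ≤ Y)
    (hne : Q ≠ ⊥) : normalizer (Q : Set G) ≤ Y := by
  obtain ⟨P, hPY, key⟩ := exists_sylow h
  obtain ⟨U, hU⟩ := (hQ.of_equiv (subgroupOfEquivOfLe hQY).symm).exists_le_sylow
  obtain ⟨y, hy⟩ := MulAction.exists_smul_eq ↥Y U (P.subtype hPY)
  -- `y` moves `Q` into `P`
  have hle : Q.map (MulAut.conj (y : G)).toMonoidHom ≤ (P : Subgroup G) := by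
    rintro _ ⟨q, hq, rfl⟩
    have h1 : y * ⟨q, hQY hq⟩ * y⁻¹ ∈ ((P.subtype hPY : Sylow p ↥Y) : Subgroup ↥Y) := by
      rw [← hy, Sylow.coe_subgroup_smul]
      exact smul_mem_pointwise_smul _ _ _ (hU hq)
    exact h1
  have hne' : Q.map (MulAut.conj (y : G)).toMonoidHom ≠ ⊥ := fun hb =>
    hne ((map_eq_bot_iff_of_injective _ (MulAut.conj (y : G)).injective).1 hb)
  intro n hn
  have h2 := key _ hle hne' (x := y * n * (y : G)⁻¹) (by
    rw [mem_normalizer_iff] at hn ⊢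
    intro a
    simp only [mem_map_equiv, MulAut.conj_symm_apply]
    rw [hn]
    simp [mul_assoc])
  have h3 := mul_mem (mul_mem (inv_mem y.2) h2) y.2
  simpa [mul_assoc] using h3

end Cfsg.Agent.StronglyEmbedded
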